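import Mathlib
import Groth.Agent.S2735

/-!
# fppf sheaves: Zariski sheaf + quasi-finite affine fppf covers
-/

set_option autoImplicit false
open CategoryTheory AlgebraicGeometry Limits
universe w u

namespace Groth.Agent.Helper19.FppfShQF

instance lfp_isMultiplicative :
    MorphismProperty.IsMultiplicative (@LocallyOfFinitePresentation : MorphismProperty Scheme.{u}) where
  id_mem _ := inferInstance

theorem fppfTopology_eq_propQC :
    Scheme.fppfTopology.{u} =
      Scheme.propQCTopology (@Flat ⊓ @LocallyOfFinitePresentation : MorphismProperty Scheme.{u}) := by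
  have h : Scheme.precoverage (@Flat ⊓ @LocallyOfFinitePresentation : MorphismProperty Scheme.{u}) ≤
      Scheme.qcPrecoverage := by
    apply Scheme.precoverage_le_qcPrecoverage_of_isOpenMap
    rintro X Y f ⟨h1, h2⟩
    haveI : Flat f := h1
    haveI : LocallyOfFinitePresentation f := h2
    exact f.isOpenMap
  show Scheme.fppfPrecoverage.toGrothendieck = (Scheme.propQCPrecoverage _).toGrothendieck
  congr 1
  show Scheme.precoverage _ = Scheme.qcPrecoverage ⊓ Scheme.precoverage _
  exact (inf_eq_right.mpr h).symm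

end Groth.Agent.Helper19.FppfShQF

namespace Groth.Agent.Helper19.FppfShQF

/-- The hypothesis of S5238 on single quasi-finite fppf covers of affines. -/
def QFHyp (F : Scheme.{u}ᵒᵖ ⥤ Type w) : Prop :=
  ∀ (T S : Scheme.{u}) [IsAffine T] [IsAffine S] (f : T ⟶ S)
    [Flat f] [Surjective f] [LocallyOfFinitePresentation f] [LocallyQuasiFinite f],
    Presieve.IsSheafFor F (Presieve.singleton f)

/-- Separatedness for the pullback of the sieve generated by an affine quasi-finite fppf cover
along an arbitrary morphism. -/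
theorem isSeparatedFor_pullback_generate {F : Scheme.{u}ᵒᵖ ⥤ Type w}
    (hzar : Presieve.IsSheaf Scheme.zariskiTopology F) (hqf : QFHyp F)
    {S' X : Scheme.{u}} [IsAffine S'] [IsAffine X] (g : S' ⟶ X)
    [Flat g] [Surjective g] [LocallyOfFinitePresentation g] [LocallyQuasiFinite g]
    {Y : Scheme.{u}} (k : Y ⟶ X) :
    Presieve.IsSeparatedFor F
      ((Sieve.generate (Presieve.singleton g)).pullback k : Presieve Y) := by
  intro x t₁ t₂ h₁ h₂
  have hsepY : Presieve.IsSeparatedFor F (Presieve.ofArrows Y.affineCover.X Y.affineCover.f) := by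
    refine (hzar.isSheafFor _ ?_).isSeparatedFor
    exact Scheme.Cover.mem_grothendieckTopology Y.affineCover
  refine hsepY.ext ?_
  intro Z j hj
  obtain ⟨i, rfl, rfl⟩ := Presieve.ofArrows_surj _ _ hj
  simp only [eqToHom_refl, Category.id_comp]
  -- the affine piece
  haveI : IsAffine (Y.affineCover.X i) := by dsimp [Scheme.affineCover]; infer_instance
  have hsh : Presieve.IsSheafFor F
      (Presieve.singleton (pullback.snd g (Y.affineCover.f i ≫ k))) := hqf _ _ _
  have hinj := Presieve.isSeparatedFor_singleton.mp hsh.isSeparatedFor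
  apply hinj
  have hmem : ((Sieve.generate (Presieve.singleton g)).pullback k : Presieve Y)
      (pullback.snd g (Y.affineCover.f i ≫ k) ≫ Y.affineCover.f i) := by
    refine ⟨S', pullback.fst g (Y.affineCover.f i ≫ k), g, Presieve.singleton.mk, ?_⟩
    rw [pullback.condition, Category.assoc]
  have e₁ := h₁ _ hmem
  have e₂ := h₂ _ hmem
  rw [op_comp, F.map_comp] at e₁ e₂
  exact e₁.trans e₂.symm

theorem isSheafFor_singleton_of_qf {F : Scheme.{u}ᵒᵖ ⥤ Type w}
    (hzar : Presieve.IsSheaf Scheme.zariskiTopology F) (hqf : QFHyp F)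
    {T X : Scheme.{u}} [IsAffine X] (f : T ⟶ X)
    [Flat f] [Surjective f] [LocallyOfFinitePresentation f] :
    Presieve.IsSheafFor F (Presieve.singleton f) := by
  obtain ⟨S', g, h, hcomp, hgfl, hglfp, hgqf, hgsurj, haff⟩ := Groth.Agent.S2735.result f
  haveI : IsAffine S' := haff inferInstance
  rw [Presieve.isSheafFor_iff_generate]
  refine Presieve.isSheafFor_subsieve_aux F (S := Sieve.generate (Presieve.singleton g)) ?_ ?_ ?_
  · rintro Z l ⟨W, a, b, ⟨⟩, rfl⟩
    exact ⟨T, a ≫ h, f, Presieve.singleton.mk, by rw [Category.assoc, hcomp]⟩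
  · rw [← Presieve.isSheafFor_iff_generate]
    exact hqf _ _ g
  · intro Y k _
    exact isSeparatedFor_pullback_generate hzar hqf g k

theorem isSheaf_fppf_iff (F : Scheme.{u}ᵒᵖ ⥤ Type w) :
    Presheaf.IsSheaf Scheme.fppfTopology F ↔
      Presheaf.IsSheaf Scheme.zariskiTopology F ∧ QFHyp F := by
  constructor
  · intro hF
    rw [isSheaf_iff_isSheaf_of_type] at hF ⊢
    refine ⟨Presieve.isSheaf_of_le F
      (Precoverage.toGrothendieck_mono Scheme.zariskiPrecoverage_le_fppfPrecoverage) hF, ?_⟩
    intro T S _ _ f _ _ _ _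
    exact hF.isSheafFor _ (Precoverage.generate_mem_toGrothendieck f.singleton_mem_fppfPrecoverage)
  · rintro ⟨hzar, hqf⟩
    rw [isSheaf_iff_isSheaf_of_type] at hzar ⊢
    rw [fppfTopology_eq_propQC, isSheaf_type_propQCTopology_iff]
    refine ⟨hzar, fun {R S} f hf hs => ?_⟩
    haveI : Flat (Spec.map f) := hf.1
    haveI : LocallyOfFinitePresentation (Spec.map f) := hf.2
    haveI : Surjective (Spec.map f) := hs
    exact isSheafFor_singleton_of_qf hzar hqf (Spec.map f)

end Groth.Agent.Helper19.FppfShQF
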